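import Mathlib
import Cfsg.Agent.H319.FC.Defs
import Cfsg.Agent.ClassicalGeometry.Sp4Graph
import Cfsg.Agent.ClassicalGeometry.SympBasic

/-!
# S5764, task SP4G-F4: elements with `z² + s z + 1 = 0`, and the graph automorphism
-/

set_option autoImplicit false

namespace Cfsg.Agent.H193.FC

open Cfsg Matrix
open Cfsg.Agent.ClassicalGeometry.SympBasic Cfsg.Agent.ClassicalGeometry.SympAutSemi
open Cfsg.Agent.ClassicalGeometry.Sp4Graph
open Cfsg.Agent.H319.FC

universe u

variable {F : Type u} [Field F]

theorem wedge_add_left (x x' y : V4 F) : wedge (x + x') y = wedge x y + wedge x' y := by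
  funext i
  simp only [wedge_apply, Pi.add_apply]
  ring

theorem wedge_add_right (x y y' : V4 F) : wedge x (y + y') = wedge x y + wedge x y' := by
  funext i
  simp only [wedge_apply, Pi.add_apply]
  ring

theorem wedge_smul_left (a : F) (x y : V4 F) : wedge (a • x) y = a • wedge x y := by
  funext i
  simp only [wedge_apply, Pi.smul_apply, smul_eq_mul]
  ring

theorem wedge_smul_right (a : F) (x y : V4 F) : wedge x (a • y) = a • wedge x y := by
  funext i
  simp only [wedge_apply, Pi.smul_apply, smul_eq_mul]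
  ring

theorem wedge_comm (x y : V4 F) : wedge x y = wedge y x := by
  funext i
  simp only [wedge_apply]
  ring

theorem wedge_self [CharP F 2] (x : V4 F) : wedge x x = 0 := by
  funext i
  simp only [wedge_apply, Pi.zero_apply]
  rw [mul_comm (x (pb i))]
  exact CharTwo.add_self_eq_zero _

/-- a totally isotropic plane has a non-zero image -/
theorem wedge_ne_zero [CharP F 2] {x y : V4 F} (hx : x ≠ 0) (hxy : sympForm 2 F x y = 0)
    (hy : ∀ c : F, y ≠ c • x) : wedge x y ≠ 0 := by
  intro h
  have h0 := congrFun h (.inl 0)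
  have h1 := congrFun h (.inl 1)
  have h2 := congrFun h (.inr 0)
  have h3 := congrFun h (.inr 1)
  simp only [wedge_apply, pa_inl, pa_inr, pb_inl0, pb_inl1, pb_inr0, pb_inr1, Pi.zero_apply] at h0 h1 h2 h3
  rw [sympForm_eq] at hxy
  have h22 : (2 : F) = 0 := CharTwo.two_eq_zero
  have hneg : ∀ z : F, -z = z := fun z => CharTwo.neg_eq z
  have hm : x (.inl 0) * y (.inr 0) + x (.inr 0) * y (.inl 0) = 0 := by
    have h5 : (x (.inl 0) * y (.inr 0) + x (.inr 0) * y (.inl 0)) ^ 2 = 0 := by
      have e : (x (.inl 0) * y (.inr 0) + x (.inr 0) * y (.inl 0))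
          = (x (.inl 1) * y (.inr 1) + x (.inr 1) * y (.inl 1)) := by
        linear_combination hxy - (x (.inl 1) * y (.inr 1) + x (.inr 1) * y (.inl 1)) * h22
      rw [sq]
      nth_rw 2 [e]
      linear_combination (x (.inr 0) * y (.inr 1) + x (.inr 1) * y (.inr 0)) * h0
        + (x (.inr 0) * y (.inl 1) + x (.inl 1) * y (.inr 0)) * h1
        - (x (.inl 0) * y (.inl 1) * x (.inr 0) * y (.inr 1)
          + x (.inl 1) * y (.inl 0) * x (.inr 1) * y (.inr 0)) * h22
    exact pow_eq_zero_iff (two_ne_zero) |>.1 h5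
  have hm' : x (.inl 1) * y (.inr 1) + x (.inr 1) * y (.inl 1) = 0 := by
    linear_combination hxy - hm
  -- all minors vanish
  have key : ∀ i j : I4, x i * y j = x j * y i := by
    have e : ∀ a b : F, a + b = 0 → a = b := fun a b hab => by
      rw [← hneg b]; exact eq_neg_of_add_eq_zero_left hab
    intro i j
    rcases i with i | i <;> rcases j with j | j <;> fin_cases i <;> fin_cases j <;>
      simp only [Fin.zero_eta, Fin.mk_one, Fin.isValue, Fin.reduceFinMk]
    all_goals
      first
        | exact e _ _ h0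
        | exact e _ _ h1
        | exact e _ _ h2
        | exact e _ _ h3
        | exact e _ _ hm
        | exact e _ _ hm'
        | exact (e _ _ h0).symm
        | exact (e _ _ h1).symm
        | exact (e _ _ h2).symm
        | exact (e _ _ h3).symm
        | exact (e _ _ hm).symm
        | exact (e _ _ hm').symm
  obtain ⟨k, hk⟩ : ∃ k, x k ≠ 0 := by
    by_contra hc
    push Not at hc
    exact hx (funext hc)
  apply hy (y k / x k)
  funext i
  rw [Pi.smul_apply, smul_eq_mul, div_mul_eq_mul_div, eq_div_iff hk]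
  linear_combination key k i

/-- the action of the graph automorphism on totally isotropic planes -/
theorem rho_graph_wedge [Finite F] [CharP F 2] (z : Sp4 F) {x y : V4 F} (hxy : sympForm 2 F x y = 0) :
    rho 2 F (graphEquiv F z) (wedge x y) = wedge (rho 2 F z x) (rho 2 F z y) := by
  rw [rho_apply, graphEquiv_apply, graphHom_coe, mn_mulVec_wedge z.2 hxy]
  rfl

theorem exists_sqrt [Finite F] [CharP F 2] (a : F) : ∃ b, b ^ 2 = a := by
  have : Function.Surjective (fun b : F => b ^ 2) :=
    Finite.injective_iff_surjective.1 (fun a b h => CharTwo.sq_injective h)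
  exact this a

theorem form_symm [CharP F 2] (x y : V4 F) : sympForm 2 F x y = sympForm 2 F y x := by
  rw [sympForm_swap]
  exact CharTwo.neg_eq _

/-- **F4.** -/
theorem stF4 (F : Type u) [Field F] [Finite F] [CharP F 2] : StF4 F := by
  intro z s hz
  have hneg : ∀ z : F, -z = z := fun z => CharTwo.neg_eq z
  have h22 : (2 : F) = 0 := CharTwo.two_eq_zero
  have hvv : ∀ v : V4 F, v + v = 0 := fun v => by
    funext i; exact CharTwo.add_self_eq_zero _
  obtain ⟨T, hT⟩ : ∃ T : V4 F →ₗ[F] V4 F, ∀ v, T v = rho 2 F z v :=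
    ⟨Matrix.mulVecLin z.1, fun v => rfl⟩
  have hTT : ∀ v, T (T v) = s • T v + v := by
    intro v
    have h := hz v
    rw [← hT, ← hT] at h
    calc T (T v) = (T (T v) + s • T v + v) + (s • T v + v) := by
          have := hvv (s • T v + v)
          rw [add_assoc (T (T v)), add_assoc, this, add_zero]
      _ = s • T v + v := by rw [h, zero_add]
  have hiso : ∀ u v, sympForm 2 F (T u) (T v) = sympForm 2 F u v := fun u v => by
    rw [hT, hT, sympForm_rho]
  -- adjoint
  have hadj : ∀ u v, sympForm 2 F u (T v) = sympForm 2 F (T u) v + s * sympForm 2 F u v := by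
    intro u v
    have h1 : T (T u + s • u) = u := by
      rw [map_add, map_smul, hTT]
      have := hvv (s • T u)
      calc s • T u + u + s • T u = (s • T u + s • T u) + u := by abel
        _ = u := by rw [this, zero_add]
    have h2 := hiso (T u + s • u) v
    rw [h1, sympForm_add_left, sympForm_smul_left] at h2
    exact h2
  have hfin : ∀ x y : V4 F, x ≠ 0 → sympForm 2 F x y = 0 → (∀ c : F, y ≠ c • x) →
      wedge (T x) (T y) = wedge x y → ∃ v, v ≠ 0 ∧ rho 2 F (graphEquiv F z) v = v := by
    intro x y hx hxy hy h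
    refine ⟨wedge x y, wedge_ne_zero hx hxy hy, ?_⟩
    rw [rho_graph_wedge z hxy, ← hT, ← hT, h]
  -- a vector with `Q = 0`
  obtain ⟨x, hx0, hxQ⟩ : ∃ x : V4 F, x ≠ 0 ∧ sympForm 2 F x (T x) = 0 := by
    set e : V4 F := Pi.single (.inl 0) 1 with he
    set e' : V4 F := Pi.single (.inl 1) 1 with he'
    have hee : sympForm 2 F e e' = 0 := by
      rw [sympForm_eq]; simp [he, he']
    have hcross : sympForm 2 F e (T e') + sympForm 2 F e' (T e) = 0 := by
      rw [hadj, form_symm e' (T e), hee, mul_zero, add_zero]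
      exact CharTwo.add_self_eq_zero _
    have hQ : ∀ a b : F, sympForm 2 F (a • e + b • e') (T (a • e + b • e'))
        = a ^ 2 * sympForm 2 F e (T e) + b ^ 2 * sympForm 2 F e' (T e') := by
      intro a b
      simp only [map_add, map_smul, sympForm_add_left, sympForm_add_right, sympForm_smul_left,
        sympForm_smul_right]
      linear_combination a * b * hcross
    have hne : ∀ a b : F, (a ≠ 0 ∨ b ≠ 0) → a • e + b • e' ≠ 0 := by
      intro a b hab h
      have h1 := congrFun h (.inl 0)
      have h2 := congrFun h (.inl 1)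
      simp [he, he'] at h1 h2
      rcases hab with h | h
      · exact h h1
      · exact h h2
    by_cases h0 : sympForm 2 F e (T e) = 0
    · refine ⟨(1 : F) • e + (0 : F) • e', hne _ _ (Or.inl one_ne_zero), ?_⟩
      rw [hQ, h0]; ring
    · obtain ⟨a, ha⟩ := exists_sqrt (sympForm 2 F e' (T e'))
      obtain ⟨b, hb⟩ := exists_sqrt (sympForm 2 F e (T e))
      refine ⟨a • e + b • e', hne _ _ (Or.inr ?_), ?_⟩
      · rintro rfl
        apply h0
        rw [← hb]; ring
      · rw [hQ, ha, hb]
        linear_combination (sympForm 2 F e' (T e') * sympForm 2 F e (T e)) * h22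
  by_cases hpar : ∀ c : F, T x ≠ c • x
  · apply hfin x (T x) hx0 hxQ hpar
    rw [hTT, wedge_add_right, wedge_smul_right, wedge_self, smul_zero, zero_add, wedge_comm]
  push Not at hpar
  obtain ⟨a, ha⟩ := hpar
  have haa : a ^ 2 = s * a + 1 := by
    have h1 := hTT x
    rw [ha, map_smul, ha, smul_smul, smul_smul] at h1
    have h2 : (a * a - (s * a + 1)) • x = 0 := by
      rw [sub_smul, h1, add_smul, one_smul, sub_self]
    have h3 := (smul_eq_zero.1 h2).resolve_right hx0
    linear_combination h3
  have ha0 : a ≠ 0 := by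
    rintro rfl
    simp at haa
  have hs : s = a + a⁻¹ := by
    field_simp
    linear_combination (-1 : F) * haa - h22
  obtain ⟨x', hx'⟩ : ∃ v, sympForm 2 F x v = 1 := by
    obtain ⟨b, hb⟩ : ∃ b, sympForm 2 F x b ≠ 0 := by
      by_contra h
      push Not at h
      exact hx0 (eq_zero_of_forall_sympForm_right h)
    exact ⟨(sympForm 2 F x b)⁻¹ • b, by rw [sympForm_smul_right, inv_mul_cancel₀ hb]⟩
  -- a hyperbolic pair orthogonal to `x`
  obtain ⟨u, hu0, hux, hux'⟩ : ∃ u : V4 F, u ≠ 0 ∧ sympForm 2 F x u = 0 ∧ sympForm 2 F x' u = 0 := by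
    let φ : V4 F →ₗ[F] (F × F) := (sympBilin 2 F x).prod (sympBilin 2 F x')
    have hφ : LinearMap.ker φ ≠ ⊥ := by
      apply LinearMap.ker_ne_bot_of_finrank_lt
      simp
    obtain ⟨u, hu, hu0⟩ := (Submodule.ne_bot_iff _).1 hφ
    rw [LinearMap.mem_ker] at hu
    refine ⟨u, hu0, ?_, ?_⟩
    · exact congrArg Prod.fst hu
    · exact congrArg Prod.snd hu
  obtain ⟨w, hwx, huw⟩ : ∃ w : V4 F, sympForm 2 F x w = 0 ∧ sympForm 2 F u w = 1 := by
    obtain ⟨b, hb⟩ : ∃ b, sympForm 2 F u b ≠ 0 := by
      by_contra h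
      push Not at h
      exact hu0 (eq_zero_of_forall_sympForm_right h)
    obtain ⟨w', hw1⟩ : ∃ w', sympForm 2 F u w' = 1 :=
      ⟨(sympForm 2 F u b)⁻¹ • b, by rw [sympForm_smul_right, inv_mul_cancel₀ hb]⟩
    refine ⟨w' + sympForm 2 F x w' • x', ?_, ?_⟩
    · rw [sympForm_add_right, sympForm_smul_right, hx', mul_one]
      exact CharTwo.add_self_eq_zero _
    · rw [sympForm_add_right, sympForm_smul_right, hw1, form_symm u x', hux', mul_zero, add_zero]
  have hperp : ∀ v, sympForm 2 F x v = 0 → sympForm 2 F x (T v) = 0 := by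
    intro v hv
    rw [hadj, ha, sympForm_smul_left, hv]; ring
  -- `(T + a) v` is an eigenvector for `a⁻¹`
  have heig : ∀ v, T (T v + a • v) = a⁻¹ • (T v + a • v) := by
    intro v
    rw [map_add, map_smul, hTT, hs, add_smul, smul_add, smul_smul, inv_mul_cancel₀ ha0, one_smul]
    have := hvv (a • T v)
    calc a • T v + a⁻¹ • T v + v + a • T v = (a • T v + a • T v) + (a⁻¹ • T v + v) := by abel
      _ = a⁻¹ • T v + v := by rw [this, zero_add]
  have hcase : ∀ v, sympForm 2 F x v = 0 → (∀ c : F, T v + a • v ≠ c • x) →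
      ∃ v, v ≠ 0 ∧ rho 2 F (graphEquiv F z) v = v := by
    intro v hv hc
    apply hfin x (T v + a • v) hx0 ?_ hc
    · rw [heig, ha, wedge_smul_left, wedge_smul_right, smul_smul, mul_inv_cancel₀ ha0, one_smul]
    · rw [sympForm_add_right, sympForm_smul_right, hperp v hv, hv]; ring
  by_cases hcu : ∀ c : F, T u + a • u ≠ c • x
  · exact hcase u hux hcu
  by_cases hcw : ∀ c : F, T w + a • w ≠ c • x
  · exact hcase w hwx hcw
  push Not at hcu hcw
  obtain ⟨α, hα⟩ := hcu
  obtain ⟨β, hβ⟩ := hcw
  have hTu : T u = a • u + α • x := by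
    have := hvv (a • u)
    calc T u = (T u + a • u) + a • u := by rw [add_assoc, this, add_zero]
      _ = a • u + α • x := by rw [hα, add_comm]
  have hTw : T w = a • w + β • x := by
    have := hvv (a • w)
    calc T w = (T w + a • w) + a • w := by rw [add_assoc, this, add_zero]
      _ = a • w + β • x := by rw [hβ, add_comm]
  have ha1 : a ^ 2 = 1 := by
    have h1 := hiso u w
    rw [hTu, hTw] at h1
    simp only [sympForm_add_left, sympForm_add_right, sympForm_smul_left, sympForm_smul_right] at h1
    rw [huw, hwx, sympForm_self, form_symm u x, hux] at h1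
    linear_combination h1
  apply hfin x u hx0 hux ?_ ?_
  · rintro c rfl
    rw [sympForm_smul_left, hwx, mul_zero] at huw
    exact zero_ne_one huw
  · rw [hTu, ha, wedge_add_right, wedge_smul_left, wedge_smul_left, wedge_smul_right, wedge_smul_right,
      wedge_self, smul_zero, smul_zero, add_zero, smul_smul, ← sq, ha1, one_smul]

end Cfsg.Agent.H193.FC
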